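import Cfsg.Agent.Lib.Goldschmidt.General.Final
import Cfsg.Agent.Lib.Goldschmidt.ThreeInv.Assembly
import Cfsg.Agent.Lib.Goldschmidt.ThreeInv.Primes
import Cfsg.Agent.Lib.Goldschmidt.ThreeInv.Cent.Main
import Cfsg.Agent.Lib.Goldschmidt.ThreeInv.Cent.CoreCent
import Cfsg.Agent.Lib.Goldschmidt.ThreeInv.Cent.PowFour
import Cfsg.Agent.Lib.Goldschmidt.ThreeInv.Chars.Main

/-!
# Goldschmidt's theorem in the form `MainAt` (owner: helper10)
-/

set_option autoImplicit false

namespace Cfsg.Agent.EvenTypeClosed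

universe u

theorem mainAt_all (L : Type u) [Group L] [Finite L] : Goldschmidt.General.MainAt L :=
  Goldschmidt.General.mainAt_of
    (Goldschmidt.ThreeInv.threeInvTarget_of
      Goldschmidt.ThreeInv.Primes.primesTarget
      (Goldschmidt.ThreeInv.centralisersTarget_of
        Goldschmidt.ThreeInv.coreCentTarget
        Goldschmidt.ThreeInv.powFourTarget)
      Goldschmidt.ThreeInv.charsTarget) L

end Cfsg.Agent.EvenTypeClosed
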